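import Mathlib
import Cfsg.Agent.Lib.FgsB.Basic
import Cfsg.Agent.Lib.FT.OddOrderTheorem

/-!
Groups with abelian 2-subgroups: inheritance, central Sylow 2-subgroups.
-/

set_option autoImplicit false

namespace CfsgLib.CharsMore.TwoComplement

universe u

/-- All `2`-subgroups are abelian. -/
def AbTwo (G : Type*) [Group G] : Prop :=
  ∀ U : Subgroup G, IsPGroup 2 U → ∀ x ∈ U, ∀ y ∈ U, x * y = y * x

variable {G : Type u} [Group G] [Finite G]

omit [Finite G] in
theorem AbTwo.subgroup (h : AbTwo G) (N : Subgroup G) : AbTwo N := by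
  intro U hU x hx y hy
  exact Subtype.ext (h (U.map N.subtype) (hU.map N.subtype) x ⟨x, hx, rfl⟩ y ⟨y, hy, rfl⟩)

theorem AbTwo.quotient (h : AbTwo G) (N : Subgroup G) [N.Normal] : AbTwo (G ⧸ N) := by
  intro U hU x hx y hy
  have : Fact (Nat.Prime 2) := ⟨Nat.prime_two⟩
  obtain ⟨P⟩ := (inferInstance : Nonempty (Sylow 2 G))
  obtain ⟨g, hg⟩ := CfsgLib.FgsB.exists_conj_le_sylow hU (P.mapSurjective (QuotientGroup.mk'_surjective N))
  have hc : ∀ a ∈ U, ∃ p ∈ (P : Subgroup G), QuotientGroup.mk' N p = g⁻¹ * a * g := fun a ha => by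
    have := hg a ha
    rw [Sylow.coe_mapSurjective] at this
    exact Subgroup.mem_map.1 this
  obtain ⟨p, hp, hpe⟩ := hc x hx
  obtain ⟨q, hq, hqe⟩ := hc y hy
  have h1 := congrArg (QuotientGroup.mk' N) (h P P.2 p hp q hq)
  rw [map_mul, map_mul, hpe, hqe] at h1
  calc x * y = g * ((g⁻¹ * x * g) * (g⁻¹ * y * g)) * g⁻¹ := by group
    _ = g * ((g⁻¹ * y * g) * (g⁻¹ * x * g)) * g⁻¹ := by rw [h1]
    _ = y * x := by group

omit [Finite G] in
theorem mem_of_two_power_of_odd {H : Subgroup G} [Finite H] (hH : Odd (Nat.card H)) {x : G} (hx : x ∈ H)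
    {k : ℕ} (hk : x ^ 2 ^ k = 1) : x = 1 := by
  have h1 : orderOf x ∣ 2 ^ k := orderOf_dvd_of_pow_eq_one hk
  have h2 : orderOf x ∣ Nat.card H := Subgroup.orderOf_dvd_natCard H hx
  have h3 := Nat.dvd_gcd h1 h2
  rw [((Nat.coprime_two_left.2 hH).pow_left k).gcd_eq_one, Nat.dvd_one, orderOf_eq_one_iff] at h3
  exact h3

/-- If every element of odd order has a class of odd size then a Sylow `2`-subgroup is central, the
group is solvable and has a `2`-complement. -/
theorem solvable_of_odd_classes (h : AbTwo G)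
    (hodd : ∀ y : G, Odd (orderOf y) → Odd (Subgroup.centralizer ({y} : Set G)).index) :
    Group.IsSolvable G ∧ ∃ H : Subgroup G, Odd (Nat.card H) ∧ ∃ k, H.index = 2 ^ k := by
  have h2 : Fact (Nat.Prime 2) := ⟨Nat.prime_two⟩
  obtain ⟨T⟩ := (inferInstance : Nonempty (Sylow 2 G))
  have hZ : Subgroup.centralizer ((T : Subgroup G) : Set G) = ⊤ := by
    refine CfsgLib.FgsB.eq_top_of_forall_exists_conj_mem fun x => ?_
    obtain ⟨m, hm⟩ := Nat.exists_eq_pow_mul_and_not_dvd (orderOf_pos x).ne' 2 (by norm_num)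
    obtain ⟨n, hn, hxeq⟩ := hm
    -- odd part and two part of `x`
    obtain ⟨α, β, hab⟩ : ∃ α β : ℤ, (2 ^ m : ℤ) * α + (n : ℤ) * β = 1 := by
      have hcop : Nat.Coprime (2 ^ m) n :=
        Nat.Coprime.pow_left m ((Nat.prime_two.coprime_iff_not_dvd).2 hn)
      exact ⟨Nat.gcdA (2 ^ m) n, Nat.gcdB (2 ^ m) n, by
        have := Nat.gcd_eq_gcd_ab (2 ^ m) n
        rw [hcop.gcd_eq_one] at this
        push_cast at this
        exact this.symm⟩
    set xo := x ^ ((2 ^ m : ℤ) * α) with hxo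
    set x2 := x ^ ((n : ℤ) * β) with hx2
    have hxx : x = xo * x2 := by rw [hxo, hx2, ← zpow_add, hab, zpow_one]
    have hord : x ^ orderOf x = 1 := pow_orderOf_eq_one x
    have ho : Odd (orderOf xo) := by
      have : xo ^ n = 1 := by
        rw [hxo, ← zpow_natCast, ← zpow_mul,
          show (2 ^ m : ℤ) * α * n = ((2 ^ m * n : ℕ) : ℤ) * α by push_cast; ring, zpow_mul,
          zpow_natCast, ← hxeq, hord, one_zpow]
      exact (Nat.odd_iff.2 (Nat.two_dvd_ne_zero.1 hn)).of_dvd_nat (orderOf_dvd_of_pow_eq_one this)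
    have ht : x2 ^ 2 ^ m = 1 := by
      rw [hx2, ← zpow_natCast, ← zpow_mul,
        show (n : ℤ) * β * ((2 ^ m : ℕ) : ℤ) = ((2 ^ m * n : ℕ) : ℤ) * β by push_cast; ring, zpow_mul,
        zpow_natCast, ← hxeq, hord, one_zpow]
    set C := Subgroup.centralizer ({xo} : Set G) with hC
    have hmem : x2 ∈ C := by
      rw [hC, Subgroup.mem_centralizer_singleton_iff, hxo, hx2]
      exact ((Commute.refl x).zpow_zpow _ _).eq
    have hU : IsPGroup 2 (Subgroup.zpowers (⟨x2, hmem⟩ : C)) := by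
      obtain ⟨j, -, hj⟩ := (Nat.dvd_prime_pow Nat.prime_two).1 (orderOf_dvd_of_pow_eq_one ht)
      exact IsPGroup.of_card (n := j) (by rw [Nat.card_zpowers, Subgroup.orderOf_mk]; exact hj)
    obtain ⟨Q, hQ⟩ := hU.exists_le_sylow
    have hQc : ¬ 2 ∣ ((Q : Subgroup C).map C.subtype).index := by
      rw [Subgroup.index_map, C.ker_subtype, sup_bot_eq, C.range_subtype, Nat.prime_two.dvd_mul,
        not_or]
      exact ⟨Q.not_dvd_index, fun hd => by
        have := hodd xo ho; rw [Nat.odd_iff] at this; rw [← hC] at this; omega⟩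
    let Q' : Sylow 2 G := (Q.2.map C.subtype).toSylow hQc
    obtain ⟨g, hg⟩ := MulAction.exists_smul_eq G T Q'
    refine ⟨g, ?_⟩
    rw [Subgroup.mem_centralizer_iff]
    intro t ht'
    have hq : g * t * g⁻¹ ∈ (Q : Subgroup C).map C.subtype := by
      have h' : g * t * g⁻¹ ∈ (Q' : Subgroup G) := by
        rw [← hg]
        exact CfsgLib.FgsB.mem_smul_of_conj_mem (by rw [show g⁻¹ * (g * t * g⁻¹) * g = t by group]; exact ht')
      simpa [Q'] using h'
    have h1 : g * t * g⁻¹ * x2 = x2 * (g * t * g⁻¹) :=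
      h _ (Q.2.map C.subtype) _ hq _ ⟨⟨x2, hmem⟩, hQ (Subgroup.mem_zpowers _), rfl⟩
    have h2 : g * t * g⁻¹ * xo = xo * (g * t * g⁻¹) :=
      Subgroup.mem_centralizer_singleton_iff.1 (Subgroup.map_subtype_le _ hq)
    have h3 : g * t * g⁻¹ * x = x * (g * t * g⁻¹) := by
      rw [hxx, ← mul_assoc, h2, mul_assoc, h1, ← mul_assoc]
    calc t * (g⁻¹ * x * g) = g⁻¹ * (g * t * g⁻¹ * x) * g := by group
      _ = g⁻¹ * (x * (g * t * g⁻¹)) * g := by rw [h3]
      _ = g⁻¹ * x * g * t := by group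
  have hTn : (T : Subgroup G).Normal := ⟨fun t ht g => by
    have hg : g ∈ Subgroup.centralizer ((T : Subgroup G) : Set G) := hZ ▸ Subgroup.mem_top g
    rw [← Subgroup.mem_centralizer_iff.1 hg t ht, mul_inv_cancel_right]
    exact ht⟩
  have hcop : Nat.Coprime (Nat.card (T : Subgroup G)) (T : Subgroup G).index := T.card_coprime_index
  obtain ⟨H, hH⟩ := Subgroup.exists_right_complement'_of_coprime (N := (T : Subgroup G)) hcop
  have hHcard : Odd (Nat.card H) := by
    rw [← hH.symm.index_eq_card, Nat.odd_iff]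
    have := T.not_dvd_index
    omega
  obtain ⟨k, hk⟩ := IsPGroup.iff_card.1 T.2
  refine ⟨?_, H, hHcard, k, by rw [hH.index_eq_card]; exact hk⟩
  have hT : Group.IsSolvable (T : Subgroup G) := by
    have : Group.IsNilpotent (T : Subgroup G) := T.2.isNilpotent
    infer_instance
  have hq : Group.IsSolvable (G ⧸ (T : Subgroup G)) := by
    refine CfsgLib.FT.isSolvable_of_odd ?_
    rw [← Subgroup.index_eq_card, Nat.odd_iff]
    have := T.not_dvd_index
    omega
  exact solvable_of_ker_le_range (T : Subgroup G).subtype (QuotientGroup.mk' (T : Subgroup G))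
    (by simp)

end CfsgLib.CharsMore.TwoComplement
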