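import Cfsg.Agent.Lib.CharsMore.TwoComplement.Simple
import Cfsg.Agent.Lib.CharApps.KazarinAbelian
import Cfsg.Agent.Lib.Transfer.AbelianHall

/-!
An A-group with a class whose size is exactly the largest `2`-part of a class size is solvable.
-/

set_option autoImplicit false

namespace CfsgLib.CharsMore.TwoComplement

universe u

variable {G : Type u} [Group G] [Finite G]

/-- All subgroups of prime power order are abelian. -/
def AbAll (G : Type*) [Group G] : Prop :=
  ∀ p : ℕ, p.Prime → ∀ U : Subgroup G, IsPGroup p U → ∀ x ∈ U, ∀ y ∈ U, x * y = y * x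

omit [Finite G] in
theorem AbAll.abTwo (h : AbAll G) : AbTwo G := h 2 Nat.prime_two

theorem AbAll.quotient (h : AbAll G) (N : Subgroup G) [N.Normal] : AbAll (G ⧸ N) := by
  intro p hp U hU x hx y hy
  have : Fact p.Prime := ⟨hp⟩
  obtain ⟨P⟩ := (inferInstance : Nonempty (Sylow p G))
  obtain ⟨g, hg⟩ := CfsgLib.FgsB.exists_conj_le_sylow hU (P.mapSurjective (QuotientGroup.mk'_surjective N))
  have hc : ∀ a ∈ U, ∃ p ∈ (P : Subgroup G), QuotientGroup.mk' N p = g⁻¹ * a * g := fun a ha => by
    have := hg a ha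
    rw [Sylow.coe_mapSurjective] at this
    exact Subgroup.mem_map.1 this
  obtain ⟨a, ha, hae⟩ := hc x hx
  obtain ⟨b, hb, hbe⟩ := hc y hy
  have h1 := congrArg (QuotientGroup.mk' N) (h p hp P P.2 a ha b hb)
  rw [map_mul, map_mul, hae, hbe] at h1
  calc x * y = g * ((g⁻¹ * x * g) * (g⁻¹ * y * g)) * g⁻¹ := by group
    _ = g * ((g⁻¹ * y * g) * (g⁻¹ * x * g)) * g⁻¹ := by rw [h1]
    _ = y * x := by group

omit [Finite G] in
theorem AbAll.of_sylow [Finite G]
    (hA : ∀ (p : ℕ) [Fact p.Prime] (P : Sylow p G), IsMulCommutative (P : Subgroup G)) : AbAll G := by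
  intro p hp U hU x hx y hy
  have : Fact p.Prime := ⟨hp⟩
  obtain ⟨P, hP⟩ := hU.exists_le_sylow
  have := hA p P
  exact congrArg Subtype.val (this.is_comm.comm ⟨x, hP hx⟩ ⟨y, hP hy⟩)

omit [Finite G] in
/-- An element lies in a subgroup as soon as all its primary parts do. -/
theorem mem_of_primary {S : Subgroup G} {a : G} {N : ℕ} (hN : N ≠ 0) (ha : a ^ N = 1)
    (h : ∀ l : ℕ, l.Prime → l ∣ N → a ^ (ordCompl[l] N) ∈ S) : a ∈ S := by
  classical
  have hex : ∃ d, 0 < d ∧ a ^ d ∈ S := ⟨N, Nat.pos_of_ne_zero hN, by rw [ha]; exact S.one_mem⟩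
  obtain ⟨hd0, hd⟩ := Nat.find_spec hex
  set d := Nat.find hex with hdd
  have hdvd : ∀ k, a ^ k ∈ S → d ∣ k := by
    intro k hk
    by_contra hnd
    have hr : 0 < k % d := Nat.pos_of_ne_zero fun e => hnd (Nat.dvd_of_mod_eq_zero e)
    have hmem : a ^ (k % d) ∈ S := by
      rw [← Nat.mod_add_div k d, pow_add, pow_mul] at hk
      exact (Subgroup.mul_mem_cancel_right S (pow_mem hd _)).1 hk
    exact Nat.find_min hex (Nat.mod_lt k hd0) ⟨hr, hmem⟩
  by_cases h1 : d = 1
  · rwa [h1, pow_one] at hd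
  · obtain ⟨l, hl, hld⟩ := Nat.exists_prime_and_dvd h1
    have hlN : l ∣ N := hld.trans (hdvd N (by rw [ha]; exact S.one_mem))
    exact absurd (hld.trans (hdvd _ (h l hl hlN))) (Nat.not_dvd_ordCompl hl hN)

/-- An `r`-element with class of `2`-power size has, modulo `O_2`, conjugates generating an `r`-group,
so every `r`-element centralises them modulo `O_2`. -/
theorem normalClosure_mod_core (hA : AbAll G) {r : ℕ} (hr : r.Prime) {x : G} {v k : ℕ}
    (hxr : x ^ r ^ v = 1) (hk : (Subgroup.centralizer ({x} : Set G)).index = 2 ^ k) :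
    IsPGroup r (Subgroup.normalClosure ({QuotientGroup.mk' (Cfsg.pCore 2 G) x} : Set _)) ∧
    ∀ (w : G) (j : ℕ), w ^ r ^ j = 1 →
      ∀ a ∈ Subgroup.normalClosure ({QuotientGroup.mk' (Cfsg.pCore 2 G) x} : Set _),
        QuotientGroup.mk' (Cfsg.pCore 2 G) w * a = a * QuotientGroup.mk' (Cfsg.pCore 2 G) w := by
  have : Fact r.Prime := ⟨hr⟩
  have : Fact (Nat.Prime 2) := ⟨Nat.prime_two⟩
  set M := Cfsg.pCore 2 G with hM
  set f := QuotientGroup.mk' M with hf
  have hle : (Subgroup.centralizer ({x} : Set G)).map f ≤ Subgroup.centralizer ({f x} : Set _) := by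
    rintro _ ⟨c, hc, rfl⟩
    rw [Subgroup.mem_centralizer_singleton_iff, ← map_mul, ← map_mul]
    exact congrArg _ (Subgroup.mem_centralizer_singleton_iff.1 hc)
  have hd : (Subgroup.centralizer ({f x} : Set _)).index ∣ 2 ^ k := by
    rw [← hk]
    exact (Subgroup.index_dvd_of_le hle).trans
      (Subgroup.index_map_dvd _ (QuotientGroup.mk'_surjective M))
  obtain ⟨j, -, hj⟩ := (Nat.dvd_prime_pow Nat.prime_two).1 hd
  have hcomm := CfsgLib.CharApps.Kazarin.conj_comm_of_pCore_eq_bot hj
    (CfsgLib.Base.pCore_quotient_pCore 2 G)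
  set L := Subgroup.normalClosure ({f x} : Set (G ⧸ M)) with hL
  have : L.Normal := Subgroup.normalClosure_normal
  have hLp : IsPGroup r L := by
    have hpow : ∀ a ∈ L, a ∈ L ∧ a ^ r ^ v = 1 := by
      intro a ha
      refine ⟨ha, ?_⟩
      induction ha using Subgroup.closure_induction with
      | mem y hy =>
        obtain ⟨b, hb, hby⟩ := Group.mem_conjugatesOfSet_iff.1 hy
        obtain ⟨g, rfl⟩ := isConj_iff.1 hby
        rw [Set.mem_singleton_iff] at hb
        subst hb
        rw [conj_pow, ← map_pow, hxr, map_one, mul_one, mul_inv_cancel]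
      | one => exact one_pow _
      | mul y z hy hz hy' hz' =>
        rw [(show Commute y z from hcomm y hy z hz).mul_pow, hy', hz', one_mul]
      | inv y _ hy' => rw [inv_pow, hy', inv_one]
    exact fun a => ⟨v, Subtype.ext (hpow a a.2).2⟩
  refine ⟨hLp, fun w i hw a ha => ?_⟩
  have hwp : IsPGroup r (Subgroup.zpowers (f w)) := by
    obtain ⟨t, -, ht⟩ := (Nat.dvd_prime_pow hr).1
      (orderOf_dvd_of_pow_eq_one (show f w ^ r ^ i = 1 by rw [← map_pow, hw, map_one]))
    exact IsPGroup.of_card (n := t) (by rw [Nat.card_zpowers]; exact ht)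
  exact hA.quotient M r hr _ (hwp.to_sup_of_normal_right hLp) _
    (Subgroup.mem_sup_left (Subgroup.mem_zpowers _)) _ (Subgroup.mem_sup_right ha)

omit [Finite G] in
theorem commutator_eq_top {P : Subgroup G} (hP : ⁅P, P⁆ = P) : _root_.commutator P = ⊤ := by
  apply Subgroup.map_injective P.subtype_injective
  rw [Subgroup.map_subtype_commutator, hP, ← MonoidHom.range_eq_map, Subgroup.range_subtype]

/-- A perfect normal subgroup centralises `O_2`. -/
theorem le_centralizer_core (hA : AbAll G) {P : Subgroup G} (hP : ⁅P, P⁆ = P) :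
    P ≤ Subgroup.centralizer (Cfsg.pCore 2 G : Set G) := by
  have : Fact (Nat.Prime 2) := ⟨Nat.prime_two⟩
  have : (Cfsg.pCore 2 G).Normal := Cfsg.pCore_normal 2 G
  set C := Subgroup.centralizer (Cfsg.pCore 2 G : Set G) with hC
  obtain ⟨T⟩ := (inferInstance : Nonempty (Sylow 2 G))
  have hTC : (T : Subgroup G) ≤ C := fun t ht => Subgroup.mem_centralizer_iff.2 fun m hm =>
    hA 2 Nat.prime_two T T.2 m (CfsgLib.Base.pCore_le_sylow T hm) t ht
  have hodd : Odd (Nat.card (G ⧸ C)) := by
    rw [← Subgroup.index_eq_card]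
    refine Odd.of_dvd_nat ?_ (Subgroup.index_dvd_of_le hTC)
    rw [Nat.odd_iff]
    have := T.not_dvd_index
    omega
  have : Group.IsSolvable (G ⧸ C) := CfsgLib.FT.isSolvable_of_odd hodd
  set Q := P.map (QuotientGroup.mk' C) with hQ
  have hQQ : ⁅Q, Q⁆ = Q := by rw [hQ, ← Subgroup.map_commutator, hP]
  have hbot : Q = ⊥ := by
    by_contra hne
    exact absurd hQQ (Group.IsSolvable.commutator_lt_of_ne_bot hne).ne
  rw [hQ, Subgroup.map_eq_bot_iff, QuotientGroup.ker_mk'] at hbot
  exact hbot

/-- The key fixed point step. -/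
theorem commute_parts (hA : AbAll G) {P : Subgroup G} [hPn : P.Normal] (hP : ⁅P, P⁆ = P)
    {l v : ℕ} (hl : l.Prime) (hodd : Odd l) {x w g : G} (hx : x ^ l ^ v = 1) (hw : w ^ l ^ v = 1)
    (hwP : w ∈ P) (hxw : x * w = w * x)
    {k : ℕ} (hk : (Subgroup.centralizer ({x} : Set G)).index = 2 ^ k)
    (hcen : ∀ p ∈ P, ∀ a ∈ Subgroup.normalClosure ({QuotientGroup.mk' (Cfsg.pCore 2 G) x} : Set _),
      QuotientGroup.mk' (Cfsg.pCore 2 G) p * a = a * QuotientGroup.mk' (Cfsg.pCore 2 G) p)
    (hg : g * (x * w) = (x * w) * g) : g * x = x * g ∧ g * w = w * g := by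
  have : Fact l.Prime := ⟨hl⟩
  have : Fact (Nat.Prime 2) := ⟨Nat.prime_two⟩
  set M := Cfsg.pCore 2 G with hM
  set f := QuotientGroup.mk' M with hf
  set L := Subgroup.normalClosure ({f x} : Set (G ⧸ M)) with hL
  have hLn : L.Normal := Subgroup.normalClosure_normal
  set w' := g * w * g⁻¹ with hw'
  set m := x⁻¹ * (g * x * g⁻¹) with hm
  have hme : m = w * w'⁻¹ := by
    calc m = x⁻¹ * (g * (x * w) * g⁻¹) * (g * w * g⁻¹)⁻¹ := by rw [hm]; group
      _ = w * w'⁻¹ := by rw [hg, hw']; group
  have hmP : m ∈ P := hme ▸ mul_mem hwP (inv_mem (hPn.conj_mem w hwP g))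
  have hmL : f m ∈ L := by
    have hfx : f x ∈ L := Subgroup.subset_normalClosure (Set.mem_singleton _)
    rw [hm, map_mul, map_inv, map_mul, map_mul, map_inv]
    exact mul_mem (inv_mem hfx) (hLn.conj_mem _ hfx _)
  -- the image of `m` is trivial by transfer in the perfect image of `P`
  set Q := P.map f with hQ
  have hQc : _root_.commutator Q = ⊤ := commutator_eq_top (by rw [hQ, ← Subgroup.map_commutator, hP])
  have hmQ : f m ∈ Q := Subgroup.mem_map_of_mem f hmP
  have hLp : IsPGroup l (L.subgroupOf Q) :=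
    (normalClosure_mod_core hA hl hx hk).1.comap_of_injective Q.subtype Q.subtype_injective
  obtain ⟨S, hS⟩ := hLp.exists_le_sylow
  have hSc : IsMulCommutative (S : Subgroup Q) := ⟨⟨fun a b => Subtype.ext (Subtype.ext
    (hA.quotient M l hl ((S : Subgroup Q).map Q.subtype) (S.2.map _) _ ⟨a, a.2, rfl⟩ _ ⟨b, b.2, rfl⟩))⟩⟩
  have hz : (⟨f m, hmQ⟩ : Q) ∈ Subgroup.center Q := by
    rw [Subgroup.mem_center_iff]
    rintro ⟨_, p, hp, rfl⟩
    exact Subtype.ext (hcen p hp _ hmL)
  have hm1 : f m = 1 := by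
    have h := CfsgLib.Transfer.inf_commutator_inf_center_eq_bot (S : Subgroup Q) hSc S.card_coprime_index
    have hmem : (⟨f m, hmQ⟩ : Q) ∈ (S : Subgroup Q) ⊓ _root_.commutator Q ⊓ Subgroup.center Q :=
      ⟨⟨hS (Subgroup.mem_subgroupOf.2 hmL), by rw [hQc]; exact Subgroup.mem_top _⟩, hz⟩
    rw [h, Subgroup.mem_bot] at hmem
    exact congrArg Subtype.val hmem
  have hmM : m ∈ M := by rwa [hf, QuotientGroup.mk'_apply, QuotientGroup.eq_one_iff] at hm1
  have hwm : Commute m w :=
    Subgroup.mem_centralizer_iff.1 (le_centralizer_core hA hP hwP) m hmM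
  have hw'e : w' = m⁻¹ * w := by
    have h1 : m * w' = w := by rw [hme, inv_mul_cancel_right]
    rw [eq_inv_mul_iff_mul_eq, h1]
  have hmpow : m ^ l ^ v = 1 := by
    have h1 : w' ^ l ^ v = 1 := by rw [hw', conj_pow, hw, mul_one, mul_inv_cancel]
    rw [hw'e, (Commute.inv_left hwm).mul_pow, hw, mul_one, inv_pow, inv_eq_one] at h1
    exact h1
  have hm_one : m = 1 := by
    obtain ⟨i, hi⟩ := CfsgLib.Base.isPGroup_pCore 2 G ⟨m, hmM⟩
    have hi' : m ^ 2 ^ i = 1 := congrArg Subtype.val hi
    have hg' := pow_gcd_eq_one.2 ⟨hmpow, hi'⟩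
    rwa [((Nat.coprime_two_right.2 hodd).pow v i).gcd_eq_one, pow_one] at hg'
  have e1 : g * x * g⁻¹ = x := (inv_mul_eq_one.1 (hm ▸ hm_one)).symm
  have e2 : g * w * g⁻¹ = w := by rw [← hw', hw'e, hm_one, inv_one, one_mul]
  exact ⟨mul_inv_eq_iff_eq_mul.1 e1, mul_inv_eq_iff_eq_mul.1 e2⟩

/-- Minimal-order preimages have no primary part in the kernel. -/
theorem exists_preimage {Q : Type*} [Group Q] (f : G →* Q) {q : Q} (hq : q ∈ f.range) :
    ∃ y, f y = q ∧ ∀ l : ℕ, l.Prime → l ∣ orderOf y → f (y ^ ordCompl[l] (orderOf y)) ≠ 1 := by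
  classical
  obtain ⟨y0, hy0⟩ := hq
  have hex : ∃ n, ∃ y, f y = q ∧ orderOf y = n := ⟨_, y0, hy0, rfl⟩
  obtain ⟨y, hy, hn⟩ := Nat.find_spec hex
  refine ⟨y, hy, fun l hl hld h1 => ?_⟩
  set n := orderOf y with hnn
  have hn0 : n ≠ 0 := (orderOf_pos y).ne'
  have hd : orderOf q ∣ ordCompl[l] n := orderOf_dvd_of_pow_eq_one (by rw [← hy, ← map_pow, h1])
  have hcop : Nat.Coprime (orderOf q) (ordProj[l] n) :=
    (((Nat.coprime_ordCompl hl hn0).pow_left _).symm).coprime_dvd_left hd
  obtain ⟨k, hk1, hk2⟩ := Nat.chineseRemainder hcop 1 0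
  have hyk : f (y ^ k) = q := by
    rw [map_pow, hy, ← pow_mod_orderOf, hk1, pow_mod_orderOf, pow_one]
  have hlt : orderOf (y ^ k) < n := by
    have hp : (y ^ k) ^ ordCompl[l] n = 1 := by
      obtain ⟨c, hc⟩ := Nat.modEq_zero_iff_dvd.1 hk2
      rw [← pow_mul, hc, mul_comm, ← mul_assoc, mul_comm (ordCompl[l] n),
        Nat.ordProj_mul_ordCompl_eq_self, pow_mul, hnn, pow_orderOf_eq_one, one_pow]
    refine lt_of_le_of_lt (orderOf_le_of_pow_eq_one (Nat.ordCompl_pos l hn0) hp) ?_
    refine Nat.div_lt_self (Nat.pos_of_ne_zero hn0) (Nat.one_lt_pow ?_ hl.one_lt)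
    exact (hl.factorization_pos_of_dvd hn0 hld).ne'
  have := Nat.find_min' hex ⟨y ^ k, hyk, rfl⟩
  omega

/-- The main theorem. -/
theorem isSolvable_of_exact_class (hA : AbAll G) {a : ℕ}
    (hmax : ∀ y : G, ¬ 2 ^ (a + 1) ∣ (Subgroup.centralizer ({y} : Set G)).index)
    {x : G} (hx : (Subgroup.centralizer ({x} : Set G)).index = 2 ^ a) (hxodd : Odd (orderOf x)) :
    Group.IsSolvable G := by
  classical
  have h2 : Fact (Nat.Prime 2) := ⟨Nat.prime_two⟩
  by_contra hns
  -- a minimal non-solvable normal subgroup and its solvable radical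
  obtain ⟨P, ⟨hPn, hPns⟩, hPmin⟩ :=
    Set.toFinite {P : Subgroup G | P.Normal ∧ ¬ Group.IsSolvable P} |>.exists_minimal
      ⟨⊤, inferInstance, fun h => hns (Group.isSolvable_of_surjective (f := (Subgroup.topEquiv (G := G)).toMonoidHom) Subgroup.topEquiv.surjective)⟩
  have hmin : ∀ Q : Subgroup G, Q.Normal → Q ≤ P → ¬ Group.IsSolvable Q → Q = P :=
    fun Q hQn hQP hQ => le_antisymm hQP (hPmin ⟨hQn, hQ⟩ hQP)
  have hPP : ⁅P, P⁆ = P := by
    refine hmin _ (Subgroup.commutator_normal P P) (Subgroup.commutator_le_left P P) fun hs => hPns ?_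
    have : Group.IsSolvable (_root_.commutator P) := by
      rw [← Subgroup.map_subtype_commutator] at hs
      let e := ((_root_.commutator P).equivMapOfInjective P.subtype P.subtype_injective).symm
      exact Group.isSolvable_of_surjective (f := e.toMonoidHom) e.surjective
    have : Group.IsSolvable (P ⧸ _root_.commutator P) :=
      Group.isSolvable_of_comm fun a b => mul_comm (G := Abelianization P) a b
    exact (Group.isSolvable_iff_subgroup_quotient (_root_.commutator P)).2 ⟨inferInstance, inferInstance⟩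
  obtain ⟨R, ⟨hRn, hRP, hRs⟩, hRmax⟩ :=
    Set.toFinite {R : Subgroup G | R.Normal ∧ R ≤ P ∧ Group.IsSolvable R} |>.exists_maximal
      ⟨⊥, inferInstance, bot_le, inferInstance⟩
  have hR : ∀ Q : Subgroup G, Q.Normal → Q ≤ P → Group.IsSolvable Q → Q ≤ R := fun Q hQn hQP hQ =>
    le_sup_left.trans (hRmax ⟨Subgroup.sup_normal Q R, sup_le hQP hRP,
      CfsgLib.CharApps.Kazarin.isSolvable_sup Q R hQ hRs⟩ le_sup_right)
  set K := Subgroup.centralizer ({x} : Set G) with hK
  set R' := R.subgroupOf P with hR'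
  have hR'n : R'.Normal := hRn.subgroupOf P
  let f : ↥(K ⊓ P) →* P ⧸ R' := (QuotientGroup.mk' R').comp (Subgroup.inclusion inf_le_right)
  have hab : AbTwo (P ⧸ R') := (hA.abTwo.subgroup P).quotient R'
  -- the index of the image of the centraliser is a power of two
  have hrange : ∃ i, f.range.index = 2 ^ i := by
    have hd : f.range.index ∣ 2 ^ a := by
      rw [← hx]
      refine dvd_trans ?_ (CfsgLib.CharApps.Kazarin.relIndex_dvd_index K P)
      rw [MonoidHom.range_comp, Subgroup.inclusion_range, Subgroup.inf_subgroupOf_right]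
      exact Subgroup.index_map_dvd _ (QuotientGroup.mk'_surjective R')
    obtain ⟨i, -, hi⟩ := (Nat.dvd_prime_pow Nat.prime_two).1 hd
    exact ⟨i, hi⟩
  -- odd classes in the image
  have hodd : ∀ q : f.range, Odd (orderOf q) → Odd (Subgroup.centralizer ({q} : Set f.range)).index := by
    rintro ⟨q, hq⟩ hqodd
    rw [Subgroup.orderOf_mk] at hqodd
    obtain ⟨y, hy, hpart⟩ := exists_preimage f hq
    have hyodd : Odd (orderOf y) := by
      rw [Nat.odd_iff]
      by_contra h
      have hd : 2 ∣ orderOf y := by omega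
      refine hpart 2 Nat.prime_two hd (orderOf_dvd_iff_pow_eq_one.1 ?_ |> fun e => by rw [map_pow]; exact e)
      rw [hy]
      refine Nat.Coprime.dvd_of_dvd_mul_left (m := ordProj[2] (orderOf y)) ?_ ?_
      · exact (Nat.coprime_two_right.2 hqodd).pow_right _
      · rw [Nat.ordProj_mul_ordCompl_eq_self, ← hy]
        exact orderOf_map_dvd f y
    have hxy : x * (y : G) = y * x := (Subgroup.mem_centralizer_singleton_iff.1 y.2.1).symm
    have hcomm : ∀ g : G, g * (x * y) = x * y * g → g * x = x * g ∧ g * y = y * g := by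
      intro g hg
      set N := orderOf x * orderOf y with hN
      have hN0 : N ≠ 0 := Nat.mul_ne_zero (orderOf_pos x).ne' (orderOf_pos y).ne'
      have hxN : x ^ N = 1 := by rw [hN, pow_mul, pow_orderOf_eq_one, one_pow]
      have hyN : (y : G) ^ N = 1 := by
        rw [hN, mul_comm, pow_mul, ← Subgroup.coe_pow, pow_orderOf_eq_one, Subgroup.coe_one, one_pow]
      have hstep : ∀ l : ℕ, l.Prime → l ∣ N → g * x ^ ordCompl[l] N = x ^ ordCompl[l] N * g ∧
          g * (y : G) ^ ordCompl[l] N = (y : G) ^ ordCompl[l] N * g := by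
        intro l hl hlN
        have : Fact l.Prime := ⟨hl⟩
        set e := ordCompl[l] N with he
        have hpowx : (x ^ e) ^ l ^ N.factorization l = 1 := by
          rw [← pow_mul, mul_comm, he, Nat.ordProj_mul_ordCompl_eq_self, hxN]
        have hpowy : ((y : G) ^ e) ^ l ^ N.factorization l = 1 := by
          rw [← pow_mul, mul_comm, he, Nat.ordProj_mul_ordCompl_eq_self, hyN]
        have hge : g * (x ^ e * (y : G) ^ e) = x ^ e * (y : G) ^ e * g := by
          rw [← Commute.mul_pow hxy]
          exact (Commute.pow_right hg e).eq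
        have hd : (Subgroup.centralizer ({x ^ e} : Set G)).index ∣ 2 ^ a := by
          rw [← hx]
          exact Subgroup.index_dvd_of_le fun c hc => Subgroup.mem_centralizer_singleton_iff.2
            (Commute.pow_right (Subgroup.mem_centralizer_singleton_iff.1 hc) e).eq
        obtain ⟨k, -, hk⟩ := (Nat.dvd_prime_pow Nat.prime_two).1 hd
        by_cases hly : l ∣ orderOf y
        · refine commute_parts hA hPP hl ?_ hpowx hpowy (pow_mem y.2.2 e)
            ((show Commute x (y : G) from hxy).pow_pow e e).eq hk ?_ hge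
          · rcases hl.eq_two_or_odd' with rfl | h
            · exact absurd hly (fun hd => by rw [Nat.odd_iff] at hyodd; omega)
            · exact h
          -- `P` centralises the conjugates modulo the core
          set M := Cfsg.pCore 2 G with hM
          set L := Subgroup.normalClosure ({QuotientGroup.mk' M (x ^ e)} : Set (G ⧸ M)) with hL
          have : L.Normal := Subgroup.normalClosure_normal
          set D := (Subgroup.centralizer (L : Set (G ⧸ M))).comap (QuotientGroup.mk' M) ⊓ P with hD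
          set yl := y ^ ordCompl[l] (orderOf y) with hyl
          have hylD : (yl : G) ∈ D := by
            refine Subgroup.mem_inf.2 ⟨?_, yl.2.2⟩
            rw [Subgroup.mem_comap, Subgroup.mem_centralizer_iff]
            refine fun b hb => ((normalClosure_mod_core hA hl hpowx hk).2 _
              ((orderOf y).factorization l) ?_ b hb).symm
            rw [hyl, ← Subgroup.coe_pow, ← pow_mul, mul_comm, Nat.ordProj_mul_ordCompl_eq_self,
              pow_orderOf_eq_one, Subgroup.coe_one]
          have hDn : D.Normal := Subgroup.normal_inf_normal _ _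
          have hDP : D = P := by
            refine hmin D hDn inf_le_right fun hs => hpart l hl hly ?_
            rw [← hyl]
            exact (QuotientGroup.eq_one_iff _).2 (Subgroup.mem_subgroupOf.2 (hR D hDn inf_le_right hs hylD))
          intro p hp b hb
          have hp' : p ∈ D := hDP ▸ hp
          exact (Subgroup.mem_centralizer_iff.1 (Subgroup.mem_comap.1 (Subgroup.mem_inf.1 hp').1) b hb).symm
        · have hy1 : (y : G) ^ e = 1 := by
            have hco : Nat.Coprime (orderOf y) (l ^ N.factorization l) :=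
              ((hl.coprime_iff_not_dvd.2 hly).symm).pow_right _
            have : orderOf y ∣ e := hco.dvd_of_dvd_mul_left (by
              rw [he, Nat.ordProj_mul_ordCompl_eq_self]; exact Dvd.intro_left _ rfl)
            rw [← Subgroup.coe_pow, orderOf_dvd_iff_pow_eq_one.1 this, Subgroup.coe_one]
          rw [hy1, mul_one] at hge
          exact ⟨hge, by rw [hy1, mul_one, one_mul]⟩
      constructor
      · exact (Subgroup.mem_centralizer_singleton_iff.1 (mem_of_primary (S := Subgroup.centralizer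
          ({g} : Set G)) hN0 hxN fun l hl hlN => Subgroup.mem_centralizer_singleton_iff.2
            (hstep l hl hlN).1.symm)).symm
      · exact (Subgroup.mem_centralizer_singleton_iff.1 (mem_of_primary (S := Subgroup.centralizer
          ({g} : Set G)) hN0 hyN fun l hl hlN => Subgroup.mem_centralizer_singleton_iff.2
            (hstep l hl hlN).2.symm)).symm
    set C := Subgroup.centralizer ({x * (y : G)} : Set G) with hC
    set E := Subgroup.centralizer ({(y : G)} : Set G) ⊓ K with hE
    have hCE : C ≤ E := fun g hg => by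
      obtain ⟨h1, h2⟩ := hcomm g (Subgroup.mem_centralizer_singleton_iff.1 hg)
      exact ⟨Subgroup.mem_centralizer_singleton_iff.2 h2, Subgroup.mem_centralizer_singleton_iff.2 h1⟩
    have hEK : Odd (E.relIndex K) := by
      rw [Nat.odd_iff]
      by_contra h
      have h2' : 2 ∣ E.relIndex K := Nat.dvd_of_mod_eq_zero (by omega)
      apply hmax (x * y)
      refine dvd_trans ?_ (Subgroup.index_dvd_of_le hCE)
      rw [← Subgroup.relIndex_mul_index (inf_le_right : E ≤ K), hx, pow_succ']
      exact mul_dvd_mul_right h2' _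
    have hEP : Odd (E.relIndex (K ⊓ P)) := by
      refine hEK.of_dvd_nat ?_
      have hn : (P.subgroupOf K).Normal := hPn.subgroupOf K
      have := CfsgLib.CharApps.Kazarin.relIndex_dvd_index (E.subgroupOf K) (P.subgroupOf K)
      rw [← Subgroup.inf_subgroupOf_left P K, Subgroup.relIndex_subgroupOf inf_le_left] at this
      exact this
    refine hEP.of_dvd_nat ?_
    have hle : (E.subgroupOf (K ⊓ P)).map f.rangeRestrict ≤
        Subgroup.centralizer ({⟨q, hq⟩} : Set f.range) := by
      rintro _ ⟨c, hc, rfl⟩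
      rw [Subgroup.mem_centralizer_singleton_iff]
      have h1 : c * y = y * c := Subtype.ext
        (Subgroup.mem_centralizer_singleton_iff.1 (Subgroup.mem_subgroupOf.1 hc).1)
      refine Subtype.ext ?_
      have := congrArg f h1
      rw [map_mul, map_mul, hy] at this
      exact this
    exact (Subgroup.index_dvd_of_le hle).trans
      (Subgroup.index_map_dvd _ f.rangeRestrict_surjective)
  obtain ⟨-, H, hH, i, hi⟩ := solvable_of_odd_classes (hab.subgroup f.range) hodd
  obtain ⟨j, hj⟩ := hrange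
  have hq : Group.IsSolvable (P ⧸ R') := by
    refine isSolvable hab (H := H.map f.range.subtype) ?_ ⟨i + j, ?_⟩
    · rwa [Subgroup.card_subtype]
    · rw [Subgroup.index_map, f.range.ker_subtype, sup_bot_eq, f.range.range_subtype, hi, hj, pow_add]
  have hr : Group.IsSolvable R' :=
    Group.isSolvable_of_surjective (f := (Subgroup.subgroupOfEquivOfLe hRP).symm.toMonoidHom)
      (Subgroup.subgroupOfEquivOfLe hRP).symm.surjective
  exact hPns ((Group.isSolvable_iff_subgroup_quotient R').2 ⟨hr, hq⟩)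

/-- The odd part of the element has the same centraliser. -/
theorem exists_odd_same_class (hA : AbAll G) {a : ℕ} {x : G}
    (hx : (Subgroup.centralizer ({x} : Set G)).index = 2 ^ a) :
    ∃ y : G, Odd (orderOf y) ∧ (Subgroup.centralizer ({y} : Set G)).index = 2 ^ a := by
  have : Fact (Nat.Prime 2) := ⟨Nat.prime_two⟩
  set n := orderOf x with hn
  have hn0 : n ≠ 0 := (orderOf_pos x).ne'
  set x2 := x ^ ordCompl[2] n with hx2
  set xo := x ^ ordProj[2] n with hxo
  have hodd : Odd (orderOf xo) := by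
    have h1 : orderOf xo ∣ ordCompl[2] n := orderOf_dvd_of_pow_eq_one (by
      rw [hxo, ← pow_mul, Nat.ordProj_mul_ordCompl_eq_self, hn, pow_orderOf_eq_one])
    refine Odd.of_dvd_nat ?_ h1
    rw [Nat.odd_iff]
    have := Nat.not_dvd_ordCompl Nat.prime_two hn0
    omega
  -- the two-part is central
  have hpg : IsPGroup 2 (Subgroup.zpowers x2) := by
    obtain ⟨t, -, ht⟩ := (Nat.dvd_prime_pow Nat.prime_two).1 (orderOf_dvd_of_pow_eq_one
      (show x2 ^ ordProj[2] n = 1 by
        rw [hx2, ← pow_mul, mul_comm, Nat.ordProj_mul_ordCompl_eq_self, hn, pow_orderOf_eq_one]))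
    exact IsPGroup.of_card (n := t) (by rw [Nat.card_zpowers]; exact ht)
  obtain ⟨T, hT⟩ := hpg.exists_le_sylow
  have hle : Subgroup.centralizer ({x} : Set G) ≤ Subgroup.centralizer ({x2} : Set G) :=
    fun c hc => Subgroup.mem_centralizer_singleton_iff.2
      (Commute.pow_right (Subgroup.mem_centralizer_singleton_iff.1 hc) _).eq
  have htop : Subgroup.centralizer ({x2} : Set G) = ⊤ := by
    rw [← Subgroup.index_eq_one]
    have h1 := hx ▸ Subgroup.index_dvd_of_le hle
    have h2 : (Subgroup.centralizer ({x2} : Set G)).index ∣ (T : Subgroup G).index :=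
      Subgroup.index_dvd_of_le fun t ht => Subgroup.mem_centralizer_singleton_iff.2
        (hA 2 Nat.prime_two T T.2 t ht x2 (hT (Subgroup.mem_zpowers x2)))
    exact Nat.eq_one_of_dvd_coprimes
      ((Nat.prime_two.coprime_iff_not_dvd.2 T.not_dvd_index).pow_left a) h1 h2
  refine ⟨xo, hodd, ?_⟩
  suffices Subgroup.centralizer ({xo} : Set G) = Subgroup.centralizer ({x} : Set G) by rw [this, hx]
  refine le_antisymm (fun c hc => ?_) fun c hc => Subgroup.mem_centralizer_singleton_iff.2
    (Commute.pow_right (Subgroup.mem_centralizer_singleton_iff.1 hc) _).eq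
  refine Subgroup.mem_centralizer_singleton_iff.2 ?_
  refine (Subgroup.mem_centralizer_singleton_iff.1 (mem_of_primary (S := Subgroup.centralizer
    ({c} : Set G)) hn0 (pow_orderOf_eq_one x) fun l hl hln => ?_)).symm
  rw [Subgroup.mem_centralizer_singleton_iff]
  by_cases hl2 : l = 2
  · subst hl2
    exact (Subgroup.mem_centralizer_singleton_iff.1 (htop ▸ Subgroup.mem_top c :
      c ∈ Subgroup.centralizer ({x2} : Set G))).symm
  · have hd : ordProj[2] n ∣ ordCompl[l] n := by
      refine ((((Nat.coprime_primes Nat.prime_two hl).2 (Ne.symm hl2)).pow _ _)).dvd_of_dvd_mul_left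
        (m := ordProj[l] n) ?_
      rw [Nat.ordProj_mul_ordCompl_eq_self]
      exact Nat.ordProj_dvd n 2
    obtain ⟨d, hd⟩ := hd
    rw [hd, pow_mul]
    exact ((Commute.pow_right (Subgroup.mem_centralizer_singleton_iff.1 hc) d).eq).symm

end CfsgLib.CharsMore.TwoComplement
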