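import Cfsg.Agent.Lib.CharsMore.TwoComplement.AbTwo
import Cfsg.Agent.Lib.Involutions.ZStar.Main
import Cfsg.Agent.Lib.Base.MinimalNormal
import Cfsg.Agent.Lib.Coprime.Basic

/-!
No simple group has abelian Sylow `2`-subgroups and a `2`-complement: such a group would have a
TI Sylow `2`-subgroup with strongly embedded normaliser, and then no nontrivial element of odd order
inverted by an involution can normalise a Sylow `2`-subgroup; counting involutions gives a contradiction.
-/

set_option autoImplicit false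

namespace CfsgLib.CharsMore.TwoComplement

universe u

/-- A minimal counterexample. -/
structure Min {G : Type u} [Group G] (H : Subgroup G) : Prop where
  ab : AbTwo G
  odd : Odd (Nat.card H)
  two : ∃ k, H.index = 2 ^ k
  simple : ∀ N : Subgroup G, N.Normal → N = ⊥ ∨ N = ⊤
  nonsolv : ¬ Group.IsSolvable G
  ih : ∀ C : Subgroup G, C ≠ ⊤ → (∃ H' : Subgroup C, Odd (Nat.card H') ∧ ∃ k, H'.index = 2 ^ k) →
    Group.IsSolvable C

variable {G : Type u} [Group G] [Finite G] {H : Subgroup G}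

omit [Finite G] in
theorem invol_inv {u : G} (hu : orderOf u = 2) : u⁻¹ = u :=
  inv_eq_iff_mul_eq_one.2 (by rw [← pow_two, ← hu, pow_orderOf_eq_one])

theorem mem_of_normalizes (T : Sylow 2 G) {u : G} (hu : orderOf u = 2)
    (h : u ∈ Subgroup.normalizer ((T : Subgroup G) : Set G)) : u ∈ (T : Subgroup G) := by
  have : Fact (Nat.Prime 2) := ⟨Nat.prime_two⟩
  have hp : IsPGroup 2 (Subgroup.zpowers u) :=
    IsPGroup.of_card (n := 1) (by rw [Nat.card_zpowers, hu, pow_one])
  have := hp.inf_normalizer_sylow T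
  exact (this.le ⟨Subgroup.mem_zpowers u, h⟩).2

theorem exists_sylow_mem {u : G} (hu : orderOf u = 2) : ∃ T : Sylow 2 G, u ∈ (T : Subgroup G) := by
  have : Fact (Nat.Prime 2) := ⟨Nat.prime_two⟩
  have hp : IsPGroup 2 (Subgroup.zpowers u) :=
    IsPGroup.of_card (n := 1) (by rw [Nat.card_zpowers, hu, pow_one])
  obtain ⟨T, hT⟩ := hp.exists_le_sylow
  exact ⟨T, hT (Subgroup.mem_zpowers u)⟩

namespace Min

theorem two_part (M : Min H) (T : Sylow 2 G) :
    Nat.card H * Nat.card (T : Subgroup G) = Nat.card G := by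
  have : Fact (Nat.Prime 2) := ⟨Nat.prime_two⟩
  obtain ⟨k, hk⟩ := M.two
  rw [← H.card_mul_index, hk, T.card_eq_multiplicity, ← H.card_mul_index, hk,
    Nat.factorization_mul Nat.card_pos.ne' (by positivity), Finsupp.add_apply,
    Nat.factorization_eq_zero_of_not_dvd (by
      have := M.odd; rw [Nat.odd_iff] at this; omega),
    Nat.prime_two.factorization_pow, Finsupp.single_eq_same, zero_add]

theorem coprime_card (M : Min H) (T : Sylow 2 G) :
    (Nat.card H).Coprime (Nat.card (T : Subgroup G)) := by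
  obtain ⟨n, hn⟩ := IsPGroup.iff_card.1 T.2
  rw [hn]
  exact (Nat.coprime_two_right.2 M.odd).pow_right n

theorem eq_one_of_mem (M : Min H) (T : Sylow 2 G) {x : G} (hH : x ∈ H) (hT : x ∈ (T : Subgroup G)) :
    x = 1 := by
  have h := CfsgLib.Coprime.inf_eq_bot_of_coprime (M.coprime_card T)
  exact Subgroup.mem_bot.1 (h.le ⟨hH, hT⟩)

theorem factor (M : Min H) (T : Sylow 2 G) (g : G) : ∃ h ∈ H, ∃ s ∈ (T : Subgroup G), g = h * s := by
  have hc := Subgroup.isComplement'_of_coprime (M.two_part T) (M.coprime_card T)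
  obtain ⟨⟨h, s⟩, hg, -⟩ := hc.existsUnique g
  exact ⟨h, h.2, s, s.2, hg.symm⟩

theorem center_bot (M : Min H) : Subgroup.center G = ⊥ :=
  (M.simple _ inferInstance).resolve_right fun h => M.nonsolv
    (Group.isSolvable_of_comm fun a b => (Subgroup.mem_center_iff.1 (h ▸ Subgroup.mem_top a) b).symm)

theorem ne_top (M : Min H) : H ≠ ⊤ := fun h => M.nonsolv (by
  refine CfsgLib.FT.isSolvable_of_odd ?_
  have := M.odd
  rwa [h, Subgroup.card_top] at this)

theorem eq_bot_of_normalized (M : Min H) (T : Sylow 2 G) {U : Subgroup G} (hU : U ≤ H)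
    (hn : ∀ s ∈ (T : Subgroup G), ∀ x ∈ U, s * x * s⁻¹ ∈ U) : U = ⊥ := by
  have hle : Subgroup.normalClosure (U : Set G) ≤ H := by
    refine (Subgroup.closure_le _).2 fun y hy => ?_
    obtain ⟨x, hx, hxy⟩ := Group.mem_conjugatesOfSet_iff.1 hy
    obtain ⟨g, rfl⟩ := isConj_iff.1 hxy
    obtain ⟨h, hh, s, hs, rfl⟩ := M.factor T g
    rw [show h * s * x * (h * s)⁻¹ = h * (s * x * s⁻¹) * h⁻¹ by group]
    exact mul_mem (mul_mem hh (hU (hn s hs x hx))) (inv_mem hh)
  rcases M.simple _ Subgroup.normalClosure_normal with e | e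
  · exact le_bot_iff.1 (e ▸ Subgroup.le_normalClosure)
  · exact absurd (top_le_iff.1 (e ▸ hle)) M.ne_top

theorem centralizer_le (M : Min H) {t : G} (ht : orderOf t = 2) (T : Sylow 2 G)
    (htT : t ∈ (T : Subgroup G)) :
    Subgroup.centralizer ({t} : Set G) ≤ Subgroup.normalizer ((T : Subgroup G) : Set G) := by
  have : Fact (Nat.Prime 2) := ⟨Nat.prime_two⟩
  set C := Subgroup.centralizer ({t} : Set G) with hC
  have hTC : (T : Subgroup G) ≤ C := fun s hs =>
    Subgroup.mem_centralizer_singleton_iff.2 (M.ab _ T.2 s hs t htT)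
  have hCtop : C ≠ ⊤ := fun h => by
    have hz : t ∈ Subgroup.center G := Subgroup.mem_center_iff.2 fun g =>
      Subgroup.mem_centralizer_singleton_iff.1 (show g ∈ C from h ▸ Subgroup.mem_top g)
    rw [M.center_bot, Subgroup.mem_bot] at hz
    rw [hz, orderOf_one] at ht
    omega
  set H' := H.subgroupOf C with hH'
  have hcomp : H'.IsComplement' ((T : Subgroup G).subgroupOf C) := by
    refine Subgroup.isComplement'_of_disjoint_and_mul_eq_univ ?_ ?_
    · rw [disjoint_iff_inf_le]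
      rintro ⟨x, hx⟩ ⟨h1, h2⟩
      exact Subtype.ext (M.eq_one_of_mem T (Subgroup.mem_subgroupOf.1 h1) (Subgroup.mem_subgroupOf.1 h2))
    · refine Set.eq_univ_of_forall fun g => ?_
      obtain ⟨h, hh, s, hs, e⟩ := M.factor T g
      have hhC : h ∈ C := by
        rw [show h = (g : G) * s⁻¹ by rw [e, mul_inv_cancel_right]]
        exact mul_mem g.2 (inv_mem (hTC hs))
      exact ⟨⟨h, hhC⟩, Subgroup.mem_subgroupOf.2 hh, ⟨s, hTC hs⟩, Subgroup.mem_subgroupOf.2 hs,
        Subtype.ext e.symm⟩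
  have hTcard : Nat.card ((T : Subgroup G).subgroupOf C) = Nat.card (T : Subgroup G) :=
    Nat.card_congr (Subgroup.subgroupOfEquivOfLe hTC).toEquiv
  have hH'dvd : Nat.card H' ∣ Nat.card H :=
    Subgroup.card_comap_dvd_of_injective H C.subtype C.subtype_injective
  have hH'odd : Odd (Nat.card H') := M.odd.of_dvd_nat hH'dvd
  obtain ⟨n, hn⟩ := IsPGroup.iff_card.1 T.2
  have hsol : Group.IsSolvable C := M.ih C hCtop ⟨H', hH'odd, n, by
    rw [hcomp.symm.index_eq_card, hTcard, hn]⟩
  -- the odd core is trivial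
  set O := Cfsg.oddCore C with hO
  have hOn : O.Normal := Cfsg.pPrimeCore_normal 2 C
  have hOH : O ≤ H' := by
    have hnorm : H' ≤ Subgroup.normalizer (O : Set C) := Subgroup.le_normalizer_of_normal
    have hd := CfsgLib.Coprime.card_sup_dvd hnorm
    have hodd : Odd (Nat.card (H' ⊔ O : Subgroup C)) :=
      (hH'odd.mul (CfsgLib.Base.odd_card_oddCore C)).of_dvd_nat hd
    have hd2 : Nat.card (H' ⊔ O : Subgroup C) ∣ Nat.card H' * 2 ^ n := by
      rw [← hn, ← hTcard, hcomp.card_mul]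
      exact Subgroup.card_subgroup_dvd_card _
    have hle := Nat.le_of_dvd Nat.card_pos
      (((Nat.coprime_two_right.2 hodd).pow_right n).dvd_of_dvd_mul_right hd2)
    rw [Subgroup.eq_of_le_of_card_ge (le_sup_left : H' ≤ H' ⊔ O) hle]
    exact le_sup_right
  have hOmap : O.map C.subtype = ⊥ := by
    refine M.eq_bot_of_normalized T ?_ ?_
    · rintro _ ⟨x, hx, rfl⟩
      exact Subgroup.mem_subgroupOf.1 (hOH hx)
    · rintro s hs _ ⟨x, hx, rfl⟩
      exact ⟨⟨s, hTC hs⟩ * x * ⟨s, hTC hs⟩⁻¹, hOn.conj_mem x hx _, rfl⟩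
  rw [Subgroup.map_eq_bot_iff_of_injective _ C.subtype_injective] at hOmap
  have hcore := CfsgLib.Base.centralizer_pCore_le_of_isSolvable (G := C) (p := 2) hOmap
  set P := Cfsg.pCore 2 C with hP
  let TC : Sylow 2 C := T.subtype hTC
  have hTCe : (TC : Subgroup C) = (T : Subgroup G).subgroupOf C := rfl
  have hPle : P ≤ (TC : Subgroup C) := CfsgLib.Base.pCore_le_sylow TC
  have heq : (TC : Subgroup C) = P := le_antisymm (fun s hs => hcore (Subgroup.mem_centralizer_iff.2
    fun p hp => M.ab.subgroup C _ TC.2 p (hPle hp) s hs)) hPle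
  intro g hg
  rw [Subgroup.mem_normalizer_iff]
  have hPn : P.Normal := Cfsg.pCore_normal 2 C
  have key : ∀ g ∈ C, ∀ x ∈ (T : Subgroup G), g * x * g⁻¹ ∈ (T : Subgroup G) := by
    intro g hg x hx
    have hx' : (⟨x, hTC hx⟩ : C) ∈ P := by
      rw [← heq, hTCe]; exact Subgroup.mem_subgroupOf.2 hx
    have := hPn.conj_mem _ hx' ⟨g, hg⟩
    rw [← heq, hTCe] at this
    exact Subgroup.mem_subgroupOf.1 this
  refine fun x => ⟨key g hg x, fun h => ?_⟩
  have := key g⁻¹ (inv_mem hg) _ h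
  simpa [mul_assoc] using this

/-- An involution lies in only one Sylow `2`-subgroup. -/
theorem sylow_unique (M : Min H) {t : G} (ht : orderOf t = 2) {T T' : Sylow 2 G}
    (h : t ∈ (T : Subgroup G)) (h' : t ∈ (T' : Subgroup G)) : T = T' := by
  have hle : (T' : Subgroup G) ≤ Subgroup.normalizer ((T : Subgroup G) : Set G) := fun s hs =>
    M.centralizer_le ht T h (Subgroup.mem_centralizer_singleton_iff.2 (M.ab _ T'.2 s hs t h'))
  have : Fact (Nat.Prime 2) := ⟨Nat.prime_two⟩
  have hinf : (T' : Subgroup G) ≤ (T : Subgroup G) := fun x hx =>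
    ((T'.2.inf_normalizer_sylow T).le ⟨hx, hle hx⟩).2
  exact Sylow.ext (T'.is_maximal' T.2 hinf)

theorem inverts_conj {i u g : G} {k : ℤ} (hu : u * i * u⁻¹ = i⁻¹) (hg : g * i ^ k * g⁻¹ = i) :
    g * u * g⁻¹ * i * (g * u * g⁻¹)⁻¹ = i⁻¹ := by
  calc g * u * g⁻¹ * i * (g * u * g⁻¹)⁻¹
      = g * (u * (g⁻¹ * (g * i ^ k * g⁻¹) * g) * u⁻¹) * g⁻¹ := by rw [hg]; group
    _ = g * (u * i * u⁻¹) ^ k * g⁻¹ := by rw [conj_zpow]; group
    _ = (g * i ^ k * g⁻¹)⁻¹ := by rw [hu, inv_zpow]; group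
    _ = i⁻¹ := by rw [hg]

/-- An inverted element of odd order centralises no involution. -/
theorem not_centralizes (M : Min H) {i u e : G} (hi : Odd (orderOf i)) (hi1 : i ≠ 1)
    (hu : orderOf u = 2) (hui : u * i * u⁻¹ = i⁻¹) (he : orderOf e = 2) (hei : e * i = i * e) :
    False := by
  have : Fact (Nat.Prime 2) := ⟨Nat.prime_two⟩
  set N := Subgroup.normalizer (Subgroup.zpowers i : Set G) with hN
  have hmem : ∀ g : G, g * i * g⁻¹ ∈ Subgroup.zpowers i → g ∈ N := fun g hg => by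
    rw [hN]
    refine Subgroup.mem_normalizer_fintype fun n hn => ?_
    obtain ⟨k, rfl⟩ := hn
    rw [← conj_zpow]
    exact Subgroup.zpow_mem _ hg k
  have huN : u ∈ N := hmem u (by rw [hui]; exact inv_mem (Subgroup.mem_zpowers i))
  have heN : e ∈ N := hmem e (by rw [hei, mul_inv_cancel_right]; exact Subgroup.mem_zpowers i)
  have heU : IsPGroup 2 (Subgroup.zpowers (⟨e, heN⟩ : N)) :=
    IsPGroup.of_card (n := 1) (by rw [Nat.card_zpowers, Subgroup.orderOf_mk, he, pow_one])
  have huU : IsPGroup 2 (Subgroup.zpowers (⟨u, huN⟩ : N)) :=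
    IsPGroup.of_card (n := 1) (by rw [Nat.card_zpowers, Subgroup.orderOf_mk, hu, pow_one])
  obtain ⟨P, hP⟩ := heU.exists_le_sylow
  obtain ⟨g, hg⟩ := CfsgLib.FgsB.exists_conj_le_sylow huU P
  set u' : N := g⁻¹ * ⟨u, huN⟩ * g with hu'
  have hu'P : u' ∈ (P : Subgroup N) := hg _ (Subgroup.mem_zpowers _)
  obtain ⟨k, hk⟩ : ((g : G) * i * (g : G)⁻¹) ∈ Subgroup.zpowers i :=
    (Subgroup.mem_normalizer_iff.1 g.2 i).1 (Subgroup.mem_zpowers i)
  have hu'i : (u' : G) * i * (u' : G)⁻¹ = i⁻¹ := by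
    have := inverts_conj (g := (g : G)⁻¹) hui (k := k) (by
      simp only at hk
      rw [hk]; group)
    simpa [hu'] using this
  have hu'ord : orderOf (u' : G) = 2 := by
    rw [show (u' : G) = MulAut.conj (g : G)⁻¹ u by simp [hu'], MulEquiv.orderOf_eq, hu]
  have hcomm : (u' : G) * e = e * (u' : G) :=
    congrArg Subtype.val (M.ab.subgroup N _ P.2 u' hu'P ⟨e, heN⟩ (hP (Subgroup.mem_zpowers _)))
  obtain ⟨T, hT⟩ := exists_sylow_mem he
  have hu'N := M.centralizer_le he T hT (Subgroup.mem_centralizer_singleton_iff.2 hcomm)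
  have hiN := M.centralizer_le he T hT (Subgroup.mem_centralizer_singleton_iff.2 hei.symm)
  have hu'T := mem_of_normalizes T hu'ord hu'N
  have h2 : i⁻¹ * i⁻¹ ∈ (T : Subgroup G) := by
    have := mul_mem hu'T ((Subgroup.mem_normalizer_iff.1 hiN _).1 (inv_mem hu'T))
    rw [show (u' : G) * (i * (u' : G)⁻¹ * i⁻¹) = (u' : G) * i * (u' : G)⁻¹ * i⁻¹ by group, hu'i] at this
    exact this
  obtain ⟨j, hj⟩ := IsPGroup.iff_orderOf.1 T.2 ⟨_, h2⟩
  rw [Subgroup.orderOf_mk] at hj
  have h3 : i⁻¹ * i⁻¹ = 1 := by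
    refine mem_of_two_power_of_odd (H := Subgroup.zpowers i) (by rwa [Nat.card_zpowers])
      (mul_mem (inv_mem (Subgroup.mem_zpowers i)) (inv_mem (Subgroup.mem_zpowers i))) (k := j) ?_
    rw [← hj, pow_orderOf_eq_one]
  refine hi1 (mem_of_two_power_of_odd (H := Subgroup.zpowers i) (by rwa [Nat.card_zpowers])
    (Subgroup.mem_zpowers i) (k := 1) ?_)
  rw [pow_one, pow_two, ← inv_inj, mul_inv_rev, inv_one, h3]

/-- An inverted element of odd order normalises no Sylow `2`-subgroup. -/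
theorem not_normalizes (M : Min H) {i u : G} (hi : Odd (orderOf i)) (hi1 : i ≠ 1)
    (hu : orderOf u = 2) (hui : u * i * u⁻¹ = i⁻¹) (T : Sylow 2 G)
    (hT : i ∈ Subgroup.normalizer ((T : Subgroup G) : Set G)) : False := by
  have hfix : ∀ s ∈ (T : Subgroup G), i * s = s * i → s = 1 := by
    intro s hs hc
    by_contra hne
    obtain ⟨j, hj⟩ := IsPGroup.iff_orderOf.1 T.2 ⟨s, hs⟩
    rw [Subgroup.orderOf_mk] at hj
    obtain ⟨m, rfl⟩ : ∃ m, j = m + 1 := ⟨j - 1, by
      rcases Nat.eq_zero_or_pos j with rfl | h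
      · rw [pow_zero, orderOf_eq_one_iff] at hj; exact absurd hj hne
      · omega⟩
    have he : orderOf (s ^ 2 ^ m) = 2 := by
      rw [orderOf_pow' _ (by positivity), hj, pow_succ, Nat.gcd_mul_right_left]
      exact Nat.mul_div_cancel_left 2 (by positivity)
    exact M.not_centralizes hi hi1 hu hui he ((Commute.pow_right hc (2 ^ m)).eq.symm)
  obtain ⟨h0, hh0, a, ha, hia⟩ := M.factor T i⁻¹
  have hconj : ∀ s ∈ (T : Subgroup G), i * s * i⁻¹ ∈ (T : Subgroup G) := fun s hs =>
    (Subgroup.mem_normalizer_iff.1 hT s).1 hs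
  let ψ : ↥(T : Subgroup G) → ↥(T : Subgroup G) := fun s =>
    ⟨(s : G)⁻¹ * (i * s * i⁻¹), mul_mem (inv_mem s.2) (hconj s s.2)⟩
  have hψ : Function.Injective ψ := by
    intro s r hsr
    have e : (s : G)⁻¹ * (i * s * i⁻¹) = (r : G)⁻¹ * (i * r * i⁻¹) := congrArg Subtype.val hsr
    have hd : (r : G) * (s : G)⁻¹ ∈ (T : Subgroup G) := mul_mem r.2 (inv_mem s.2)
    have h1 := hfix _ hd (by
      have e1 : (r : G) * (s : G)⁻¹ = i * r * i⁻¹ * (i * s * i⁻¹)⁻¹ := by
        calc (r : G) * (s : G)⁻¹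
            = r * ((s : G)⁻¹ * (i * s * i⁻¹)) * (i * s * i⁻¹)⁻¹ := by group
          _ = r * ((r : G)⁻¹ * (i * r * i⁻¹)) * (i * s * i⁻¹)⁻¹ := by rw [e]
          _ = _ := by group
      calc i * ((r : G) * (s : G)⁻¹) = (i * r * i⁻¹ * (i * s * i⁻¹)⁻¹) * i := by group
        _ = _ := by rw [← e1])
    exact Subtype.ext (mul_inv_eq_one.1 h1).symm
  obtain ⟨⟨s, hs⟩, hψs⟩ := Finite.surjective_of_injective hψ ⟨a, ha⟩
  have e : s⁻¹ * (i * s * i⁻¹) = a := congrArg Subtype.val hψs
  set j := s⁻¹ * i * s with hj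
  have hjH : j ∈ H := by
    have : j = h0⁻¹ := by
      rw [hj, eq_inv_iff_mul_eq_one]
      calc s⁻¹ * i * s * h0 = (s⁻¹ * (i * s * i⁻¹)) * (i * h0) := by group
        _ = a * (i * h0) := by rw [e]
        _ = a * ((h0 * a)⁻¹ * h0) := by rw [← hia, inv_inv]
        _ = 1 := by group
    rw [this]; exact inv_mem hh0
  have hjN : j ∈ Subgroup.normalizer ((T : Subgroup G) : Set G) :=
    mul_mem (mul_mem (inv_mem (Subgroup.le_normalizer hs)) hT) (Subgroup.le_normalizer hs)
  set u' := s⁻¹ * u * s with hu'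
  have hu'ord : orderOf u' = 2 := by
    rw [show u' = MulAut.conj s⁻¹ u by simp [hu'], MulEquiv.orderOf_eq, hu]
  have hu'j : u' * j * u'⁻¹ = j⁻¹ := by
    calc u' * j * u'⁻¹ = s⁻¹ * (u * i * u⁻¹) * s := by rw [hu', hj]; group
      _ = j⁻¹ := by rw [hui, hj]; group
  obtain ⟨h1, hh1, b, hb, hub⟩ := M.factor T u'⁻¹
  have hu'e : u' = b⁻¹ * h1⁻¹ := by rw [← mul_inv_rev, ← hub, inv_inv]
  have hbj : b * j * b⁻¹ * j⁻¹ ∈ H := by
    have hju : j = u'⁻¹ * j⁻¹ * u' := by
      calc j = u'⁻¹ * (u' * j * u'⁻¹) * u' := by group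
        _ = _ := by rw [hu'j]
    have hbjb : b * j⁻¹ * b⁻¹ = h1⁻¹ * j * h1 := by
      conv_rhs => rw [hju, hub, hu'e]
      group
    have : (b * j⁻¹ * b⁻¹)⁻¹ * j⁻¹ ∈ H := mul_mem (inv_mem (by
      rw [hbjb]; exact mul_mem (mul_mem (inv_mem hh1) hjH) hh1)) (inv_mem hjH)
    rwa [show (b * j⁻¹ * b⁻¹)⁻¹ * j⁻¹ = b * j * b⁻¹ * j⁻¹ by group] at this
  have hbT : b * j * b⁻¹ * j⁻¹ ∈ (T : Subgroup G) := by
    rw [show b * j * b⁻¹ * j⁻¹ = b * (j * b⁻¹ * j⁻¹) by group]
    exact mul_mem hb ((Subgroup.mem_normalizer_iff.1 hjN _).1 (inv_mem hb))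
  have hbj' : b * j = j * b := mul_inv_eq_iff_eq_mul.1 (mul_inv_eq_one.1 (M.eq_one_of_mem T hbj hbT))
  have hb1 : b = 1 := by
    have hc : i * (s * b * s⁻¹) = (s * b * s⁻¹) * i := by
      calc i * (s * b * s⁻¹) = s * (j * b) * s⁻¹ := by rw [hj]; group
        _ = s * (b * j) * s⁻¹ := by rw [hbj']
        _ = (s * b * s⁻¹) * i := by rw [hj]; group
    have := hfix _ (mul_mem (mul_mem hs hb) (inv_mem hs)) hc
    calc b = s⁻¹ * (s * b * s⁻¹) * s := by group
      _ = 1 := by rw [this]; group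
  have hu'H : u' ∈ H := by rw [hu'e, hb1, inv_one, one_mul]; exact inv_mem hh1
  have h2 := Subgroup.orderOf_dvd_natCard H hu'H
  rw [hu'ord] at h2
  have := M.odd
  rw [Nat.odd_iff] at this
  omega

/-- Two involutions moving a Sylow `2`-subgroup to the same place are equal. -/
theorem eq_of_smul_eq (M : Min H) {u v : G} (hu : orderOf u = 2) (hv : orderOf v = 2) (T : Sylow 2 G)
    (huT : u ∉ (T : Subgroup G)) (h : u • T = v • T) : u = v := by
  have : Fact (Nat.Prime 2) := ⟨Nat.prime_two⟩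
  have huu : u * u = 1 := by rw [← pow_two, ← hu, pow_orderOf_eq_one]
  have hvv : v * v = 1 := by rw [← pow_two, ← hv, pow_orderOf_eq_one]
  by_contra hne
  set T' := u • T with hT'
  have h1 : (u * v) • T = T := by rw [mul_smul, ← h, hT', ← mul_smul, huu, one_smul]
  have h2 : (u * v) • T' = T' := by
    calc (u * v) • T' = (u * v) • (v • T) := by rw [h]
      _ = T' := by rw [mul_smul, ← mul_smul v v, hvv, one_smul]
  have hne' : T' ≠ T := fun e =>
    huT (mem_of_normalizes T hu (Sylow.smul_eq_iff_mem_normalizer.1 e))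
  have hn1 := Sylow.smul_eq_iff_mem_normalizer.1 h1
  have hn2 := Sylow.smul_eq_iff_mem_normalizer.1 h2
  have hinv : u * (u * v) * u⁻¹ = (u * v)⁻¹ := by
    rw [mul_inv_rev, invol_inv hu, invol_inv hv, ← mul_assoc, huu, one_mul]
  rcases Nat.even_or_odd (orderOf (u * v)) with he | ho
  · obtain ⟨r, hr⟩ := he
    have hpos := orderOf_pos (u * v)
    have hz : orderOf ((u * v) ^ r) = 2 := by
      rw [orderOf_pow' _ (by omega), hr, ← two_mul, Nat.gcd_mul_left_left]
      exact Nat.mul_div_left 2 (by omega)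
    exact hne' (M.sylow_unique hz (mem_of_normalizes T' hz (pow_mem hn2 r))
      (mem_of_normalizes T hz (pow_mem hn1 r)))
  · refine M.not_normalizes ho (fun e => hne ?_) hu hinv T hn1
    rw [mul_eq_one_iff_eq_inv.1 e, invol_inv hv]

theorem two_involutions (M : Min H) (T : Sylow 2 G) :
    ∃ t t' : G, t ≠ t' ∧ orderOf t = 2 ∧ orderOf t' = 2 ∧ t ∈ (T : Subgroup G) ∧
      t' ∈ (T : Subgroup G) := by
  have : Fact (Nat.Prime 2) := ⟨Nat.prime_two⟩
  by_contra hh
  obtain ⟨t0, ht0⟩ := exists_prime_orderOf_dvd_card' (G := (T : Subgroup G)) 2 (by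
    obtain ⟨n, hn⟩ := IsPGroup.iff_card.1 T.2
    rcases Nat.eq_zero_or_pos n with rfl | h
    · exfalso
      refine M.nonsolv (CfsgLib.FT.isSolvable_of_odd ?_)
      rw [← M.two_part T, hn, pow_zero, mul_one]
      exact M.odd
    · rw [hn]; exact dvd_pow_self 2 h.ne')
  have ht : orderOf (t0 : G) = 2 := by rw [Subgroup.orderOf_coe]; exact ht0
  have hiso : Cfsg.IsIsolatedInvolution (t0 : G) := by
    refine ⟨ht, fun g hg => ?_⟩
    have hb : orderOf (g * (t0 : G) * g⁻¹) = 2 := by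
      rw [show g * (t0 : G) * g⁻¹ = MulAut.conj g t0 by simp, MulEquiv.orderOf_eq, ht]
    have hbT := mem_of_normalizes T hb
      (M.centralizer_le ht T t0.2 (Subgroup.mem_centralizer_singleton_iff.2 hg.eq.symm))
    by_contra hne
    exact hh ⟨_, _, hne, hb, ht, hbT, t0.2⟩
  have hO : Cfsg.oddCore G = ⊥ := by
    refine (M.simple _ (Cfsg.pPrimeCore_normal 2 G)).resolve_right fun e => M.nonsolv ?_
    refine CfsgLib.FT.isSolvable_of_odd ?_
    have := CfsgLib.Base.odd_card_oddCore G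
    rwa [show Cfsg.oddCore G = ⊤ from e, Subgroup.card_top] at this
  have hz := CfsgLib.Involutions.ZStar.mem_center_of_oddCore_eq_bot hiso hO
  rw [M.center_bot, Subgroup.mem_bot] at hz
  rw [hz, orderOf_one] at ht
  omega

/-- There is no minimal counterexample. -/
theorem false (M : Min H) : False := by
  classical
  have : Fact (Nat.Prime 2) := ⟨Nat.prime_two⟩
  have : Fintype G := Fintype.ofFinite G
  let I := {u : G // orderOf u = 2}
  let S := Sylow 2 G
  have : Fintype S := Fintype.ofFinite _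
  choose t t' hne ht ht' htT ht'T using M.two_involutions
  -- two involutions in each Sylow subgroup
  have hI : 2 * Nat.card S ≤ Nat.card I := by
    have hinj : Function.Injective (fun z : Bool × S =>
        (if z.1 then (⟨t z.2, ht z.2⟩ : I) else ⟨t' z.2, ht' z.2⟩)) := by
      rintro ⟨b, T⟩ ⟨b', T'⟩ h
      cases b <;> cases b' <;> simp only [Bool.false_eq_true, ↓reduceIte] at h <;>
        have h' := congrArg Subtype.val h <;> simp only at h'
      · rw [M.sylow_unique (ht' T) (ht'T T) (h' ▸ ht'T T')]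
      · obtain rfl := M.sylow_unique (ht' T) (ht'T T) (h' ▸ htT T')
        exact absurd h'.symm (hne T)
      · obtain rfl := M.sylow_unique (ht T) (htT T) (h' ▸ ht'T T')
        exact absurd h' (hne T)
      · rw [M.sylow_unique (ht T) (htT T) (h' ▸ htT T')]
    have := Nat.card_le_card_of_injective _ hinj
    rwa [Nat.card_prod, Nat.card_eq_fintype_card (α := Bool), Fintype.card_bool] at this
  -- each pair of Sylow subgroups is exchanged by at most one involution
  have hpair : Nat.card I * Nat.card S ≤ Nat.card I + (Nat.card S * Nat.card S - Nat.card S) := by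
    have e1 : Nat.card {z : I × S // (z.1 : G) ∈ (z.2 : Subgroup G)} = Nat.card I := by
      refine Nat.card_eq_of_bijective (fun z => z.1.1) ⟨?_, ?_⟩
      · rintro ⟨⟨u, T⟩, h⟩ ⟨⟨u', T'⟩, h'⟩ (rfl : u = u')
        obtain rfl := M.sylow_unique u.2 h h'
        rfl
      · intro u
        obtain ⟨T, hT⟩ := exists_sylow_mem u.2
        exact ⟨⟨⟨u, T⟩, hT⟩, rfl⟩
    have e2 : Nat.card {z : S × S // z.1 ≠ z.2} = Nat.card S * Nat.card S - Nat.card S := by
      rw [Nat.card_eq_fintype_card, Fintype.card_subtype, Nat.card_eq_fintype_card]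
      have : (Finset.univ.filter fun z : S × S => z.1 ≠ z.2) = Finset.univ.offDiag := by ext z; simp
      rw [this, Finset.offDiag_card, Finset.card_univ]
    have hle : Nat.card {z : I × S // (z.1 : G) ∉ (z.2 : Subgroup G)} ≤
        Nat.card {z : S × S // z.1 ≠ z.2} := by
      refine Nat.card_le_card_of_injective (fun z => ⟨(z.1.2, (z.1.1 : G) • z.1.2), fun e =>
        z.2 (mem_of_normalizes _ z.1.1.2 (Sylow.smul_eq_iff_mem_normalizer.1 e.symm))⟩) ?_
      rintro ⟨⟨u, T⟩, h⟩ ⟨⟨u', T'⟩, h'⟩ e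
      simp only [Subtype.mk.injEq, Prod.mk.injEq] at e
      obtain ⟨rfl, e⟩ := e
      obtain rfl := Subtype.ext (M.eq_of_smul_eq u.2 u'.2 T h e)
      rfl
    have hsum : Nat.card (I × S) = Nat.card {z : I × S // (z.1 : G) ∈ (z.2 : Subgroup G)} +
        Nat.card {z : I × S // (z.1 : G) ∉ (z.2 : Subgroup G)} := by
      rw [← Nat.card_sum]
      exact (Nat.card_congr (Equiv.sumCompl fun z : I × S => (z.1 : G) ∈ (z.2 : Subgroup G))).symm
    rw [Nat.card_prod] at hsum
    omega
  have hS : 2 ≤ Nat.card S := by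
    by_contra h
    have hpos : 0 < Nat.card S := Nat.card_pos
    obtain ⟨T⟩ := (inferInstance : Nonempty S)
    have hsub : Subsingleton S := (Nat.card_eq_one_iff_unique.1 (by omega)).1
    have hn : (T : Subgroup G).Normal := Sylow.normal_of_subsingleton T
    rcases M.simple _ hn with e | e
    · exact absurd (Subgroup.mem_bot.1 (e ▸ htT T)) fun h => by
        have := ht T; rw [h, orderOf_one] at this; omega
    · have : Group.IsSolvable G := by
        have hp : IsPGroup 2 G := fun g => by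
          obtain ⟨k, hk⟩ := T.2 ⟨g, e ▸ Subgroup.mem_top g⟩
          exact ⟨k, congrArg Subtype.val hk⟩
        have := hp.isNilpotent
        infer_instance
      exact M.nonsolv this
  obtain ⟨m, hm⟩ : ∃ m, Nat.card S = m + 1 := ⟨Nat.card S - 1, by omega⟩
  rw [hm] at hI hpair hS
  have h1 : (m + 1) * (m + 1) - (m + 1) = (m + 1) * m := by
    rw [mul_add_one (m + 1) m]; omega
  rw [h1, mul_add_one] at hpair
  have h2 : Nat.card I * m ≤ (m + 1) * m := by omega
  have := Nat.le_of_mul_le_mul_right h2 (by omega)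
  omega

end Min

theorem isSolvable_aux (n : ℕ) : ∀ (G : Type u) [Group G] [Finite G], Nat.card G = n → AbTwo G →
    ∀ H : Subgroup G, Odd (Nat.card H) → (∃ k, H.index = 2 ^ k) → Group.IsSolvable G := by
  induction n using Nat.strong_induction_on with
  | _ n ih =>
    intro G _ _ hn hab H hodd hk
    by_contra hns
    have hsimple : ∀ N : Subgroup G, N.Normal → N = ⊥ ∨ N = ⊤ := by
      intro N hN
      by_contra hN'
      simp only [not_or] at hN'
      obtain ⟨k, hk⟩ := hk
      have hd := CfsgLib.Coprime.card_sup_mul_card_inf (H := H) (N := N)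
        Subgroup.le_normalizer_of_normal
      have hlt : Nat.card N < n := by
        rw [← hn]
        exact lt_of_le_of_ne (Nat.le_of_dvd Nat.card_pos (Subgroup.card_subgroup_dvd_card N))
          fun e => hN'.2 (Subgroup.eq_top_of_card_eq _ e)
      have hN1 : Group.IsSolvable N := by
        have hdvd : Nat.card (H.subgroupOf N) ∣ Nat.card H :=
          Subgroup.card_comap_dvd_of_injective H N.subtype N.subtype_injective
        refine ih _ hlt N rfl (hab.subgroup N) (H.subgroupOf N) (hodd.of_dvd_nat hdvd) ?_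
        have hcard : Nat.card (H.subgroupOf N) = Nat.card (H ⊓ N : Subgroup G) := by
          rw [← Subgroup.inf_subgroupOf_right]
          exact Nat.card_congr (Subgroup.subgroupOfEquivOfLe inf_le_right).toEquiv
        have h1 := (H.subgroupOf N).card_mul_index
        have h2 := Subgroup.card_mul_index (H.subgroupOf (H ⊔ N))
        rw [Nat.card_congr (Subgroup.subgroupOfEquivOfLe (le_sup_left : H ≤ H ⊔ N)).toEquiv] at h2
        have hidx : (H.subgroupOf N).index = (H.subgroupOf (H ⊔ N)).index := by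
          refine Nat.eq_of_mul_eq_mul_left (Nat.mul_pos (Nat.card_pos (α := H))
            (Nat.card_pos (α := H.subgroupOf N))) ?_
          rw [mul_assoc, h1, mul_assoc, mul_left_comm, h2, hcard]
          linarith
        have hrel : (H.subgroupOf (H ⊔ N)).index ∣ H.index := Subgroup.relIndex_dvd_index_of_le le_sup_left
        rw [hk] at hrel
        obtain ⟨j, -, hj⟩ := (Nat.dvd_prime_pow Nat.prime_two).1 hrel
        exact ⟨j, hidx.trans hj⟩
      have hN2 : Group.IsSolvable (G ⧸ N) := by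
        have hlt : Nat.card (G ⧸ N) < n := by
          rw [← hn, ← Subgroup.index_eq_card, ← N.card_mul_index]
          refine lt_mul_of_one_lt_left (Nat.pos_of_ne_zero Subgroup.index_ne_zero_of_finite) ?_
          exact Subgroup.one_lt_card_iff_ne_bot N |>.2 hN'.1
        refine ih _ hlt (G ⧸ N) rfl (hab.quotient N) (H.map (QuotientGroup.mk' N))
          (hodd.of_dvd_nat (Subgroup.card_map_dvd _ _)) ?_
        have hd : (H.map (QuotientGroup.mk' N)).index ∣ H.index :=
          Subgroup.index_map_dvd _ (QuotientGroup.mk'_surjective N)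
        rw [hk] at hd
        obtain ⟨j, -, hj⟩ := (Nat.dvd_prime_pow Nat.prime_two).1 hd
        exact ⟨j, hj⟩
      exact hns (solvable_of_ker_le_range N.subtype (QuotientGroup.mk' N) (by simp))
    refine Min.false (H := H) ⟨hab, hodd, hk, hsimple, hns, fun C hC ⟨H', h1, h2⟩ => ?_⟩
    refine ih _ ?_ C rfl (hab.subgroup C) H' h1 h2
    rw [← hn]
    exact lt_of_le_of_ne (Nat.le_of_dvd Nat.card_pos (Subgroup.card_subgroup_dvd_card C))
      fun e => hC (Subgroup.eq_top_of_card_eq _ e)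

/-- A group with abelian Sylow `2`-subgroups and a `2`-complement is solvable. -/
theorem isSolvable (hab : AbTwo G) {H : Subgroup G} (hodd : Odd (Nat.card H))
    (hk : ∃ k, H.index = 2 ^ k) : Group.IsSolvable G :=
  isSolvable_aux _ G rfl hab H hodd hk

end CfsgLib.CharsMore.TwoComplement
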